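import Cfsg.Agent.H380.RC.EStmt
import Cfsg.Agent.CpAutU.Fixed
import Cfsg.Agent.LieClassical.HermPerfect

/-!
# S3510, family E: case III.1 (a field automorphism of odd prime order), `(n, q₀) ≠ (3, 2)` (helper412)

* `exists_std` : after changing `U` by a linear isometry, `x i₀` is the standard field automorphism `ρ`;
* `Std` : the situation obtained; `Std.grp` : the group `M = SU_n(q₀)` inside `G`;
* `caseField_of` : the case `(n, q₀) ≠ (3, 2)`.
-/

set_option autoImplicit false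

namespace Cfsg.Agent.H412.RC

open Matrix Cfsg Cfsg.Agent.LieClassical.HermBasic Cfsg.Agent.LieClassical.HermSiegel
  Cfsg.Agent.LieClassical.HermGen Cfsg.Agent.LieClassical.SUBasic Cfsg.Agent.ClassicalGeometry.PSUAutBasic
  Cfsg.Agent.ClassicalGeometry.PSUAutCount Cfsg.Agent.LieClassical.FieldTransfer Cfsg.Agent.ClassicalGeometry
  Cfsg.Agent.H380.RC Cfsg.Agent.H106.RC Cfsg.Agent.CpAutU.Fld Cfsg.Agent.CpAutU.Fixed
open Cfsg.Agent.CpAut.Psl (fixf mem_fixf)

/-! ### change of the identification -/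

section change

variable {G Ω : Type*} [Group G] [MulAction G Ω] {N : Subgroup G} {F : Type*} [Field F] [Fintype F] {n q : ℕ}

/-- change of the identification by an automorphism -/
def chg (U : UEnv G Ω N F n q) (β : MulAut (PSU n F q)) : UEnv G Ω N F n q :=
  { U with e := U.e.trans β }

theorem chg_aut (U : UEnv G Ω N F n q) (β : MulAut (PSU n F q)) (x : G) :
    (chg U β).aut x = β * U.aut x * β⁻¹ := by
  have hN := U.env.norm
  apply MulEquiv.ext
  intro t
  obtain ⟨s, rfl⟩ := (chg U β).e.surjective t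
  have h1 := (chg U β).aut_e x s (hN.conj_mem _ s.2 x)
  have h2 := U.aut_e x s (hN.conj_mem _ s.2 x)
  have h3 : ∀ s, (chg U β).e s = β (U.e s) := fun s => rfl
  rw [h1, h3, h3, MulAut.mul_apply, MulAut.mul_apply, MulAut.inv_apply_self, h2]

variable {f b b' : (Fin n → F) → (Fin n → F)}

theorem chg_lft (U : UEnv G Ω N F n q) {β : MulAut (PSU n F q)} (hb : Ind b β) (hb' : Ind b' β⁻¹) {x : G}
    (h : U.Lft x f) : (chg U β).Lft x (fun v => b (f (b' v))) := by
  show Ind _ _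
  rw [chg_aut]
  exact (hb.comp h).comp hb'

omit [Field F] [Fintype F] in
theorem iter_conj (h2 : ∀ v, b' (b v) = v) (h1 : ∀ v, b (b' v) = v) (k : ℕ) (v : Fin n → F) :
    (fun v => b (f (b' v)))^[k] v = b (f^[k] (b' v)) := by
  induction k with
  | zero => exact (h1 v).symm
  | succ k ih => rw [Function.iterate_succ_apply', ih, h2, Function.iterate_succ_apply']

theorem chg_fam (U : UEnv G Ω N F n q) {β : MulAut (PSU n F q)} (hb : Ind b β) (hb' : Ind b' β⁻¹)
    (h2 : ∀ v, b' (b v) = v) (h1 : ∀ v, b (b' v) = v) {ι : Type*} {x : ι → G} {f : ι → (Fin n → F) → (Fin n → F)}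
    {r : ι → ℕ} (h : UFam U x f r) : UFam (chg U β) x (fun i v => b (f i (b' v))) r where
  pf := h.pf
  lft i := chg_lft U hb hb' (h.lft i)
  comm i j v := by
    show b (f i (b' (b (f j (b' v))))) = b (f j (b' (b (f i (b' v)))))
    rw [h2, h2, h.comm]
  ord i := by
    obtain ⟨k, hk⟩ := h.ord i
    exact ⟨k, fun v => by rw [iter_conj h2 h1, hk, h1]⟩

end change

/-- `x i₀` is the standard field automorphism `ρ` of odd prime order, `q = s ^ r i₀` -/
structure Std {G Ω : Type*} [Group G] [MulAction G Ω] {N : Subgroup G} {F : Type*} [Field F] [Fintype F] {n q : ℕ}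
    (U : UEnv G Ω N F n q) {ι : Type*} (x : ι → G) (f : ι → (Fin n → F) → (Fin n → F)) (r : ι → ℕ) (i₀ : ι)
    (ρ : F ≃+* F) (s : ℕ) : Prop where
  fam : UFam U x f r
  std : U.Lft (x i₀) (fun v i => ρ (v i))
  ord : orderOf ρ = r i₀
  odd : r i₀ ≠ 2
  card : Nat.card ↥(fixf ρ) = s ^ 2
  qs : q = s ^ r i₀

/-- **Normal form**: after a change of the identification `x i₀` is a field automorphism. -/
theorem exists_std {G Ω : Type*} [Group G] [MulAction G Ω] {N : Subgroup G} {F : Type*} [Field F] [Fintype F] {n q : ℕ}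
    (U : UEnv G Ω N F n q) {ι : Type*} {x : ι → G} {f : ι → (Fin n → F) → (Fin n → F)} {r : ι → ℕ} (h : UFam U x f r)
    {i₀ : ι} (h1 : ¬ Lin (f i₀)) (h2 : r i₀ ≠ 2) :
    ∃ (U' : UEnv G Ω N F n q) (f' : ι → (Fin n → F) → (Fin n → F)) (ρ : F ≃+* F) (s : ℕ), Std U' x f' r i₀ ρ s := by
  obtain ⟨A, ρ, hA, hA'⟩ := h.lft i₀
  have hpow : toAut A ρ ^ r i₀ = 1 := by rw [← hA', ← map_pow, h.pf.pow, map_one]
  have hρ : ρ ≠ 1 := by
    rintro rfl
    apply h1
    intro c v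
    rw [hA, sl_smul]
    rfl
  obtain ⟨hord, M, hM⟩ := Cfsg.Agent.CpAutU.Desc.exists_conj U.hF U.hn (h.pf.prime i₀) h2 hpow hρ
  have hb' : Ind (sl M 1) (toAut M 1 : MulAut (PSU n F q)) := ⟨M, 1, rfl, rfl⟩
  obtain ⟨b, hb, h3, h4⟩ := hb'.bij
  obtain ⟨s, hs2, hs, hq⟩ := exists_s' U.hF hord ((h.pf.prime i₀).odd_of_ne_two h2)
  refine ⟨chg U (toAut M 1)⁻¹, _, ρ, s, chg_fam U hb (by rw [inv_inv]; exact hb') h3 h4 h, ?_, hord, h2, hs, hq⟩
  show Ind _ _
  rw [chg_aut, hA', hM]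
  have h5 : (toAut M 1)⁻¹ * (toAut M 1 * toAut 1 ρ * (toAut M 1)⁻¹) * (toAut M 1)⁻¹⁻¹ = toAut 1 ρ := by group
  rw [h5]
  refine ⟨1, ρ, ?_, rfl⟩
  funext v
  rw [sl_def, gm_one, one_mulVec]

/-! ### the group `M = SU_n(q₀)` -/

namespace Std

open scoped commutatorElement

variable {G Ω : Type*} [Group G] [MulAction G Ω] {N : Subgroup G} {F : Type*} [Field F] [Fintype F] {n q : ℕ}
  {U : UEnv G Ω N F n q} {ι : Type*} {x : ι → G} {f : ι → (Fin n → F) → (Fin n → F)} {r : ι → ℕ} {i₀ : ι}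
  {ρ : F ≃+* F} {s : ℕ}

theorem isOdd (h : Std U x f r i₀ ρ s) : Odd (r i₀) := (h.fam.pf.prime i₀).odd_of_ne_two h.odd

theorem hpow (h : Std U x f r i₀ ρ s) : ∀ a ∈ fixf ρ, a ^ q = a ^ s := fun _ ha => pow_q h.isOdd h.card h.qs ha

/-- the conjugate under `x i₀` -/
theorem conj_el (h : Std U x f r i₀ ρ s) (g : SU n F q) : x i₀ * U.el g * (x i₀)⁻¹ = U.el (semiConj 1 ρ g) := by
  refine UEnv.Lft.conj_el h.std fun v => ?_
  have h1 := act_semiConj (1 : GU n F q) ρ g v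
  rw [gm_one, one_mulVec, one_mulVec] at h1
  exact h1.symm

/-- `SU_n(q₀) → G` -/
def hom (h : Std U x f r i₀ ρ s) : SU n ↥(fixf ρ) s →* G := U.el.comp (embSU U.hF h.hpow)

theorem hom_apply (h : Std U x f r i₀ ρ s) (g : SU n ↥(fixf ρ) s) : h.hom g = U.el (embSU U.hF h.hpow g) := rfl

/-- the group `M` -/
def grp (h : Std U x f r i₀ ρ s) : Subgroup G := h.hom.range

theorem mem_grp (h : Std U x f r i₀ ρ s) {g : SU n F q} (hg : semiConj 1 ρ g = g) : U.el g ∈ h.grp := by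
  obtain ⟨a, rfl⟩ := exists_embSU U.hF h.hpow hg
  exact ⟨a, rfl⟩

theorem exists_of_mem (h : Std U x f r i₀ ρ s) {m : G} (hm : m ∈ h.grp) :
    ∃ g : SU n F q, semiConj 1 ρ g = g ∧ U.el g = m := by
  obtain ⟨a, rfl⟩ := hm
  exact ⟨embSU U.hF h.hpow a, semiConj_embSU U.hF h.hpow a, rfl⟩

omit [MulAction G Ω] in
theorem mem_inf_cent {c y : G} : c ∈ N ⊓ Subgroup.centralizer {y} ↔ c ∈ N ∧ c * y = y * c := by
  rw [Subgroup.mem_inf, Subgroup.mem_centralizer_singleton_iff]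

theorem le (h : Std U x f r i₀ ρ s) : h.grp ≤ N ⊓ Subgroup.centralizer {x i₀} := by
  intro m hm
  obtain ⟨g, hg, rfl⟩ := h.exists_of_mem hm
  refine mem_inf_cent.2 ⟨U.el_mem g, ?_⟩
  have h1 := h.conj_el g
  rw [hg, mul_inv_eq_iff_eq_mul] at h1
  exact h1.symm

theorem comm_le (h : Std U x f r i₀ ρ s) :
    ⁅N ⊓ Subgroup.centralizer {x i₀}, N ⊓ Subgroup.centralizer {x i₀}⁆ ≤ h.grp := by
  have key : ∀ c ∈ N ⊓ Subgroup.centralizer {x i₀}, ∃ a z : SU n F q, U.el a = c ∧ semiConj 1 ρ a = a * z ∧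
      z ∈ Subgroup.center (SU n F q) := by
    intro c hc
    obtain ⟨hc, hc'⟩ := mem_inf_cent.1 hc
    obtain ⟨a, rfl⟩ := U.exists_el hc
    refine ⟨a, a⁻¹ * semiConj 1 ρ a, rfl, by group, ?_⟩
    rw [← U.el_eq_one, map_mul, map_inv, ← h.conj_el]
    rw [← hc']
    group
  rw [Subgroup.commutator_le]
  intro c hc d hd
  obtain ⟨a, z, rfl, ha', hz⟩ := key c hc
  obtain ⟨b, w, rfl, hb', hw⟩ := key d hd
  have h1 : semiConj 1 ρ ⁅a, b⁆ = ⁅a, b⁆ := by
    rw [map_commutatorElement, ha', hb', commutatorElement_def, commutatorElement_def]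
    have hz' := Subgroup.mem_center_iff.1 hz
    have hw' := Subgroup.mem_center_iff.1 hw
    calc a * z * (b * w) * (a * z)⁻¹ * (b * w)⁻¹
        = a * (z * b) * (w * z⁻¹) * a⁻¹ * w⁻¹ * b⁻¹ := by group
      _ = a * (b * z) * (w * z⁻¹) * a⁻¹ * w⁻¹ * b⁻¹ := by rw [hz' b]
      _ = a * b * (z * w) * z⁻¹ * a⁻¹ * w⁻¹ * b⁻¹ := by group
      _ = a * b * (w * z) * z⁻¹ * a⁻¹ * w⁻¹ * b⁻¹ := by rw [hw' z]
      _ = a * b * (w * a⁻¹) * w⁻¹ * b⁻¹ := by group
      _ = a * b * (a⁻¹ * w) * w⁻¹ * b⁻¹ := by rw [hw' a⁻¹]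
      _ = a * b * a⁻¹ * b⁻¹ := by group
  have h2 := h.mem_grp h1
  rwa [map_commutatorElement] at h2

theorem perfect (h : Std U x f r i₀ ρ s) (h32 : ¬ (n = 3 ∧ s = 2)) : ⁅h.grp, h.grp⁆ = h.grp := by
  classical
  let _ : Fintype ↥(fixf ρ) := Fintype.ofFinite _
  have hF₀ : Fintype.card ↥(fixf ρ) = s ^ 2 := by rw [← Nat.card_eq_fintype_card, h.card]
  have h1 := Cfsg.Agent.LieClassical.HermPerfect.commutator_SU_eq_top hF₀ U.hn h32
  have h3 := congrArg (Subgroup.map h.hom) h1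
  rw [commutator_def, Subgroup.map_commutator, ← MonoidHom.range_eq_map] at h3
  exact h3

theorem grp_eq (h : Std U x f r i₀ ρ s) (h32 : ¬ (n = 3 ∧ s = 2)) :
    h.grp = ⁅N ⊓ Subgroup.centralizer {x i₀}, N ⊓ Subgroup.centralizer {x i₀}⁆ := by
  refine le_antisymm ?_ h.comm_le
  conv_lhs => rw [← h.perfect h32]
  exact Subgroup.commutator_mono h.le h.le

theorem mem_norm (h : Std U x f r i₀ ρ s) (h32 : ¬ (n = 3 ∧ s = 2)) (j : ι) :
    x j ∈ Subgroup.normalizer (h.grp : Set G) := by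
  have hN := U.env.norm
  set C := N ⊓ Subgroup.centralizer {x i₀} with hC
  have h1 : ∀ g : G, g * x i₀ = x i₀ * g → C.map (MulAut.conj g).toMonoidHom ≤ C := by
    intro g hg
    rintro _ ⟨c, hc, rfl⟩
    obtain ⟨hc1, hc2⟩ := mem_inf_cent.1 hc
    refine mem_inf_cent.2 ⟨hN.conj_mem _ hc1 g, ?_⟩
    change g * c * g⁻¹ * x i₀ = x i₀ * (g * c * g⁻¹)
    have hg' : g⁻¹ * x i₀ = x i₀ * g⁻¹ := by
      rw [inv_mul_eq_iff_eq_mul, ← mul_assoc, eq_mul_inv_iff_mul_eq, hg]
    calc g * c * g⁻¹ * x i₀ = g * c * (g⁻¹ * x i₀) := by group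
      _ = g * (c * x i₀) * g⁻¹ := by rw [hg']; group
      _ = (g * x i₀) * c * g⁻¹ := by rw [hc2]; group
      _ = _ := by rw [hg]; group
  have h2 : ∀ g : G, g * x i₀ = x i₀ * g → h.grp.map (MulAut.conj g).toMonoidHom ≤ h.grp := by
    intro g hg
    conv_lhs => rw [h.grp_eq h32, Subgroup.map_commutator]
    conv_rhs => rw [h.grp_eq h32]
    exact Subgroup.commutator_mono (h1 g hg) (h1 g hg)
  have h3 := h.fam.pf.comm j i₀
  have h4 : (x j)⁻¹ * x i₀ = x i₀ * (x j)⁻¹ := by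
    rw [inv_mul_eq_iff_eq_mul, ← mul_assoc, eq_mul_inv_iff_mul_eq, h3]
  rw [Subgroup.mem_normalizer_iff]
  intro m
  constructor
  · intro hm
    exact h2 _ h3 ⟨m, hm, rfl⟩
  · intro hm
    have h5 := h2 _ h4 ⟨_, hm, rfl⟩
    have h6 : (MulAut.conj (x j)⁻¹).toMonoidHom (x j * m * (x j)⁻¹) = m := by
      change (x j)⁻¹ * (x j * m * (x j)⁻¹) * (x j)⁻¹⁻¹ = m
      group
    rwa [h6] at h5

/-- `M` is isomorphic to `PSU_n(q₀)` -/
theorem exists_equiv (h : Std U x f r i₀ ρ s) : Nonempty (PSU n ↥(fixf ρ) s ≃* h.grp) := by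
  classical
  let _ : Fintype ↥(fixf ρ) := Fintype.ofFinite _
  have hF₀ : Fintype.card ↥(fixf ρ) = s ^ 2 := by rw [← Nat.card_eq_fintype_card, h.card]
  have hS := sett (n := n) U.hF U.hn hF₀ h.hpow
  have hk : Subgroup.center (SU n ↥(fixf ρ) s) = h.hom.ker := by
    ext g
    rw [MonoidHom.mem_ker, h.hom_apply, U.el_eq_one, ← hS.cen g]
    exact pr_eq_one_iff
  exact ⟨(QuotientGroup.quotientMulEquivOfEq hk).trans (QuotientGroup.quotientKerEquivRange h.hom)⟩

/-! ### Siegel transformations with centre in `V₀` -/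

theorem siegel_rho (_h : Std U x f r i₀ ρ s) {u w : Fin n → F} {μ : F} (hs : IsSiegel q u w μ)
    (hu : ∀ i, ρ (u i) = u i) : IsSiegel q u (fun i => ρ (w i)) (ρ μ) := by
  have hu' : (fun i => ρ (u i)) = u := funext hu
  refine ⟨hs.iso, ?_, ?_⟩
  · have h1 := herm_map (n := n) (q := q) ρ w u
    rw [hu', hs.orth, map_zero] at h1
    exact h1
  · rw [herm_map, ← map_pow, ← map_add, ← map_add, hs.tr, map_zero]

theorem act_siegel_rho (h : Std U x f r i₀ ρ s) {u w : Fin n → F} {μ : F} (hs : IsSiegel q u w μ)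
    (hu : ∀ i, ρ (u i) = u i) (v : Fin n → F) :
    (fun i => ρ (act (siegel U.hF u w μ hs) v i)) =
      act (siegel U.hF u (fun i => ρ (w i)) (ρ μ) (h.siegel_rho hs hu)) (fun i => ρ (v i)) := by
  have hu' : (fun i => ρ (u i)) = u := funext hu
  have h1 := herm_map (n := n) (q := q) ρ v u
  rw [hu'] at h1
  have h2 := herm_map (n := n) (q := q) ρ v w
  rw [act_siegel, act_siegel, h1, h2]
  funext i
  simp only [Pi.add_apply, Pi.smul_apply, smul_eq_mul, map_add, map_mul, map_sub, hu]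

theorem conj_siegel (h : Std U x f r i₀ ρ s) {u w : Fin n → F} {μ : F} (hs : IsSiegel q u w μ)
    (hu : ∀ i, ρ (u i) = u i) : x i₀ * U.el (siegel U.hF u w μ hs) * (x i₀)⁻¹ =
      U.el (siegel U.hF u (fun i => ρ (w i)) (ρ μ) (h.siegel_rho hs hu)) :=
  UEnv.Lft.conj_el h.std fun v => h.act_siegel_rho hs hu v

/-- transvections over the fixed field are in `M` -/
theorem transv_mem (h : Std U x f r i₀ ρ s) {u : Fin n → F} {μ : F} (hs : IsSiegel q u 0 μ)
    (hu : ∀ i, ρ (u i) = u i) (hμ : ρ μ = μ) : U.el (siegel U.hF u 0 μ hs) ∈ h.grp := by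
  apply h.mem_grp
  apply ext_act
  intro v
  obtain ⟨w, rfl⟩ : ∃ w : Fin n → F, (fun i => ρ (w i)) = v :=
    ⟨fun i => ρ.symm (v i), funext fun i => ρ.apply_symm_apply _⟩
  have h1 := act_semiConj (1 : GU n F q) ρ (siegel U.hF u 0 μ hs) w
  rw [gm_one, one_mulVec, one_mulVec] at h1
  rw [h1, h.act_siegel_rho hs hu]
  congr 1
  refine siegel_congr U.hF _ _ rfl ?_ hμ
  funext i
  exact map_zero ρ

/-- an element of `F₀` which is not fixed by `a ↦ a ^ q` -/
theorem exists_kappa (h : Std U x f r i₀ ρ s) : ∃ κ : F, ρ κ = κ ∧ κ ^ q ≠ κ := by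
  classical
  let _ : Fintype ↥(fixf ρ) := Fintype.ofFinite _
  have hF₀ : Fintype.card ↥(fixf ρ) = s ^ 2 := by rw [← Nat.card_eq_fintype_card, h.card]
  obtain ⟨κ, hκ⟩ := exists_not_fixed hF₀
  refine ⟨κ, κ.2, fun h1 => hκ (Subtype.ext ?_)⟩
  rw [h.hpow _ κ.2] at h1
  exact h1

/-- norms of elements of `F₀` -/
theorem exists_norm (h : Std U x f r i₀ ρ s) {c : F} (hc : ρ c = c) (hc' : c ^ q = c) :
    ∃ a : F, ρ a = a ∧ a * a ^ q = c := by
  classical
  let _ : Fintype ↥(fixf ρ) := Fintype.ofFinite _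
  have hF₀ : Fintype.card ↥(fixf ρ) = s ^ 2 := by rw [← Nat.card_eq_fintype_card, h.card]
  have h1 : (⟨c, hc⟩ : ↥(fixf ρ)) ^ s = ⟨c, hc⟩ := by
    apply Subtype.ext
    change c ^ s = c
    rw [← h.hpow c hc, hc']
  obtain ⟨a, ha⟩ := exists_norm_eq hF₀ h1
  refine ⟨a, a.2, ?_⟩
  have h2 := congrArg Subtype.val ha
  rw [h.hpow _ a.2]
  exact h2

/-- **Elements centralising `M`**: singular vectors over `F₀` are eigenvectors of the lifts. -/
theorem lft_iso (h : Std U x f r i₀ ρ s) {y : G} {g : (Fin n → F) → (Fin n → F)} (hg : U.Lft y g)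
    (hy : ∀ m ∈ h.grp, y * m = m * y) {e : Fin n → F} (he : ∀ i, ρ (e i) = e i)
    (hee : hermForm n F q e e = 0) (he0 : e ≠ 0) : ∃ c : F, g e = c • e := by
  obtain ⟨κ, hκ, hκ'⟩ := h.exists_kappa
  obtain ⟨μ, rfl⟩ : ∃ μ, μ = κ - κ ^ q := ⟨_, rfl⟩
  have hμρ : ρ (κ - κ ^ q) = κ - κ ^ q := by rw [map_sub, map_pow, hκ]
  have hμ : (κ - κ ^ q) + (κ - κ ^ q) ^ q = 0 := by
    rw [sub_pow_q U.hF, pow_q_pow_q U.hF]
    ring
  have hμ0 : κ - κ ^ q ≠ 0 := sub_ne_zero.2 (Ne.symm hκ')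
  generalize κ - κ ^ q = μ at hμρ hμ hμ0
  have hs : IsSiegel q e 0 μ := isSiegel_zero hee hμ
  set t := siegel U.hF e 0 μ hs with ht
  have hact : ∀ v, act t v = v + (μ * hermForm n F q v e) • e := fun v => act_transv U.hF hee hμ v
  have htM := hy _ (h.transv_mem hs he hμρ)
  obtain ⟨s', hs'⟩ := hg.exists_conj t
  have h1 := hg.conj_el hs'
  rw [htM, mul_inv_cancel_right] at h1
  have h2 : U.el (t⁻¹ * s') = 1 := by rw [map_mul, map_inv, ← h1, inv_mul_cancel]
  obtain ⟨z, hz0, -, hz⟩ := exists_scalar_of_mem_center U.hF U.hn (U.el_eq_one.1 h2)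
  have h3 : ∀ v, act s' v = z • act t v := by
    intro v
    have h4 := congrArg (act t) (hz v)
    rwa [← act_mul, mul_inv_cancel_left, act_smul] at h4
  obtain ⟨σ, hσ1, hσ2⟩ := hg.ind.exists_rho
  -- `z = 1`
  have hz1 : z = 1 := by
    obtain ⟨v, hv⟩ := hg.ind.surjective e
    have hte : act t e = e := by rw [hact, hee, mul_zero, zero_smul, add_zero]
    have h4 : g (act t v) = z • e := by rw [hs', h3, hv, hte]
    have h5 : act t v = σ.symm z • v := by
      apply hg.ind.injective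
      rw [h4, hσ1, hv, RingEquiv.apply_symm_apply]
    rw [hact] at h5
    have h6 := congrArg (fun w => hermForm n F q w e) h5
    simp only [herm_add_left, herm_smul_left, hee, mul_zero, add_zero] at h6
    by_contra hz2
    have h7 : σ.symm z ≠ 1 := fun h8 => hz2 (by rw [← σ.apply_symm_apply z, h8, map_one])
    have h8 : hermForm n F q v e = 0 := by
      have h9 : (σ.symm z - 1) * hermForm n F q v e = 0 := by linear_combination -h6
      exact (mul_eq_zero.1 h9).resolve_left (sub_ne_zero.2 h7)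
    rw [h8, mul_zero, zero_smul, add_zero] at h5
    have h9 : (σ.symm z - 1) • v = 0 := by rw [sub_smul, one_smul, ← h5, sub_self]
    have h10 := (smul_eq_zero.1 h9).resolve_left (sub_ne_zero.2 h7)
    rw [h10, hg.ind.map_zero] at hv
    exact he0 hv.symm
  obtain ⟨v, hv⟩ := exists_herm_ne_zero U.hF he0
  have hv' : hermForm n F q v e ≠ 0 := fun h4 => hv (herm_eq_zero_swap U.hF h4)
  -- `v` with `μ h(v, e) = 1`
  have h4 := hs' ((μ * hermForm n F q v e)⁻¹ • v)
  rw [h3, hz1, one_smul, hact, hact, herm_smul_left, hg.ind.map_add] at h4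
  have h5 : μ * ((μ * hermForm n F q v e)⁻¹ * hermForm n F q v e) = 1 := by
    field_simp
  rw [h5, one_smul] at h4
  exact ⟨_, add_left_cancel h4⟩

omit [Fintype F] in
/-- the vector `e_i + y e_j + z e_k` -/
theorem herm_three {i j k : Fin n} (hij : i ≠ j) (hik : i ≠ k) (hjk : j ≠ k) (y z : F) :
    hermForm n F q (Pi.single i 1 + y • Pi.single j 1 + z • Pi.single k 1)
      (Pi.single i 1 + y • Pi.single j 1 + z • Pi.single k 1) = 1 + y * y ^ q + z * z ^ q := by
  rw [herm_add_left, herm_add_left, herm_smul_left, herm_smul_left, herm_single_left, herm_single_left,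
    herm_single_left]
  simp only [Pi.add_apply, Pi.smul_apply, Pi.single_eq_same, Pi.single_eq_of_ne hij, Pi.single_eq_of_ne hik,
    Pi.single_eq_of_ne hjk, Pi.single_eq_of_ne hij.symm, Pi.single_eq_of_ne hik.symm, Pi.single_eq_of_ne hjk.symm,
    smul_eq_mul, mul_zero, mul_one, add_zero, zero_add, one_pow, one_mul]

/-- **The centraliser of `M`**: lifts are scalars on `V₀`, their field automorphism is trivial on `F₀`. -/
theorem lft_scalar (h : Std U x f r i₀ ρ s) {g : (Fin n → F) → (Fin n → F)} {σ : F ≃+* F}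
    (hadd : ∀ v w, g (v + w) = g v + g w) (hsm : ∀ (c : F) v, g (c • v) = σ c • g v) (hinj : Function.Injective g)
    (hiso : ∀ e : Fin n → F, (∀ i, ρ (e i) = e i) → hermForm n F q e e = 0 → e ≠ 0 → ∃ c : F, g e = c • e) :
    (∀ a, ρ a = a → σ a = a) ∧ ∃ c : F, ∀ i : Fin n, g (Pi.single i 1) = c • Pi.single i 1 := by
  classical
  have hF := U.hF
  have hn := U.hn
  have hex : ∀ i j : Fin n, ∃ k : Fin n, k ≠ i ∧ k ≠ j := by
    intro i j
    by_contra hcon
    push Not at hcon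
    have h1 : (Finset.univ : Finset (Fin n)) ⊆ {i, j} := by
      intro k _
      rw [Finset.mem_insert, Finset.mem_singleton]
      by_contra h2
      push Not at h2
      exact h2.2 (hcon k h2.1)
    have h2 := Finset.card_le_card h1
    have h3 : ({i, j} : Finset (Fin n)).card ≤ 2 := Finset.card_le_two
    rw [Finset.card_univ, Fintype.card_fin] at h2
    omega
  -- the vectors
  have key : ∀ i j k : Fin n, i ≠ j → i ≠ k → j ≠ k → ∀ y z : F, ρ y = y → ρ z = z → 1 + y * y ^ q + z * z ^ q = 0 →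
      ∃ c : F, g (Pi.single i 1) + σ y • g (Pi.single j 1) + σ z • g (Pi.single k 1) =
        c • (Pi.single i 1 + y • Pi.single j 1 + z • Pi.single k 1 : Fin n → F) := by
    intro i j k hij hik hjk y z hy hz h1
    obtain ⟨c, hc⟩ := hiso (Pi.single i 1 + y • Pi.single j 1 + z • Pi.single k 1) (by
      intro l
      have h2 : ∀ m : Fin n, ρ ((Pi.single m 1 : Fin n → F) l) = (Pi.single m 1 : Fin n → F) l := by
        intro m
        rcases eq_or_ne l m with rfl | hl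
        · rw [Pi.single_eq_same, map_one]
        · rw [Pi.single_eq_of_ne hl, map_zero]
      simp only [Pi.add_apply, Pi.smul_apply, smul_eq_mul, map_add, map_mul, h2, hy, hz])
      (by rw [herm_three hij hik hjk, h1]) (by
      intro h0
      have h2 := congrFun h0 i
      simp only [Pi.add_apply, Pi.smul_apply, Pi.single_eq_same, Pi.single_eq_of_ne hij, Pi.single_eq_of_ne hik,
        smul_eq_mul, mul_zero, add_zero, Pi.zero_apply] at h2
      exact one_ne_zero h2)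
    refine ⟨c, ?_⟩
    rw [← hc, hadd, hadd, hsm, hsm]
  -- two elements of norm `-1`
  obtain ⟨b, hb, hb1⟩ := h.exists_norm (c := -1) (by rw [map_neg, map_one]) (by rw [neg_pow_q hF, one_pow])
  obtain ⟨κ, hκ, hκq⟩ := h.exists_kappa
  have hκ0 : κ ≠ 0 := by
    rintro rfl
    exact hκq (zero_pow_q hF)
  have hb0 : b ≠ 0 := by
    rintro rfl
    rw [zero_mul] at hb1
    exact one_ne_zero (neg_eq_zero.1 hb1.symm)
  obtain ⟨b', hb'⟩ : ∃ b', b' = b * (κ ^ q / κ) := ⟨_, rfl⟩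
  have hb'ρ : ρ b' = b' := by rw [hb', map_mul, map_div₀, map_pow, hb, hκ]
  have hb'1 : b' * b' ^ q = -1 := by
    have h1 : κ ^ q ≠ 0 := pow_ne_zero _ hκ0
    rw [hb', mul_pow, div_pow, pow_q_pow_q hF, ← hb1]
    field_simp
  have hbb : b ≠ b' := by
    intro h1
    rw [hb'] at h1
    have h2 : κ ^ q / κ = 1 := mul_left_cancel₀ hb0 (by rw [← h1, mul_one])
    rw [div_eq_one_iff_eq hκ0] at h2
    exact hκq h2
  have hσbb : σ b - σ b' ≠ 0 := sub_ne_zero.2 fun h1 => hbb (σ.injective h1)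
  -- off-diagonal entries
  have hoff : ∀ j k : Fin n, j ≠ k → g (Pi.single j 1) k = 0 := by
    intro j k hjk
    obtain ⟨i, hij, hik⟩ := hex j k
    have h1 : ∀ t : F, ρ t = t → t * t ^ q = -1 → g (Pi.single i 1) k + σ t * g (Pi.single j 1) k = 0 := by
      intro t ht ht'
      obtain ⟨c, hc⟩ := key i j k hij hik hjk t 0 ht (map_zero ρ) (by rw [ht']; ring)
      have h2 := congrFun hc k
      simp only [Pi.add_apply, Pi.smul_apply, map_zero, Pi.single_eq_of_ne hik.symm,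
        Pi.single_eq_of_ne hjk.symm, smul_eq_mul, mul_zero, add_zero, zero_mul] at h2
      exact h2
    have h2 : (σ b - σ b') * g (Pi.single j 1) k = 0 := by
      linear_combination h1 b hb hb1 - h1 b' hb'ρ hb'1
    exact (mul_eq_zero.1 h2).resolve_left hσbb
  have hdiag : ∀ i j : Fin n, i ≠ j → ∀ y : F, ρ y = y →
      σ y * g (Pi.single j 1) j = g (Pi.single i 1) i * y := by
    intro i j hij y hy
    obtain ⟨k, hki, hkj⟩ := hex i j
    obtain ⟨z, hz, hz1⟩ := h.exists_norm (c := -1 - y * y ^ q)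
      (by rw [map_sub, map_neg, map_one, map_mul, map_pow, hy])
      (by rw [sub_pow_q hF, neg_pow_q hF, one_pow, norm_pow_q hF])
    obtain ⟨c, hc⟩ := key i j k hij hki.symm hkj.symm y z hy hz (by rw [hz1]; ring)
    have h2 := congrFun hc i
    have h3 := congrFun hc j
    simp only [Pi.add_apply, Pi.smul_apply, Pi.single_eq_same, Pi.single_eq_of_ne hij, Pi.single_eq_of_ne hij.symm,
      Pi.single_eq_of_ne hki.symm, Pi.single_eq_of_ne hkj.symm, smul_eq_mul, mul_zero, add_zero, mul_one, zero_add,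
      hoff j i hij.symm, hoff k i hki, hoff i j hij, hoff k j hkj] at h2 h3
    rw [h3, h2]
  have hdd : ∀ i j : Fin n, g (Pi.single i 1) i = g (Pi.single j 1) j := by
    intro i j
    rcases eq_or_ne i j with rfl | hij
    · rfl
    · have h1 := hdiag i j hij 1 (map_one ρ)
      rw [map_one, one_mul, mul_one] at h1
      exact h1.symm
  let i₁ : Fin n := ⟨0, by omega⟩
  let j₁ : Fin n := ⟨1, by omega⟩
  have hij : i₁ ≠ j₁ := fun h1 => by
    have h2 := congrArg Fin.val h1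
    exact zero_ne_one h2
  have hsing : ∀ i : Fin n, g (Pi.single i 1) = (g (Pi.single i₁ 1) i₁) • (Pi.single i 1 : Fin n → F) := by
    intro i
    funext l
    rw [Pi.smul_apply, smul_eq_mul]
    rcases eq_or_ne l i with rfl | hl
    · rw [Pi.single_eq_same, mul_one, hdd i₁ l]
    · rw [Pi.single_eq_of_ne hl, mul_zero, hoff i l hl.symm]
  refine ⟨fun a ha => ?_, _, hsing⟩
  have h1 := hdiag i₁ j₁ hij a ha
  rw [hdd j₁ i₁, mul_comm] at h1
  refine mul_left_cancel₀ (fun h2 => ?_) h1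
  have h3 := hsing i₁
  rw [h2, zero_smul] at h3
  have h4 : g 0 = 0 := by
    have h5 := hadd 0 0
    rw [add_zero] at h5
    simpa using h5
  have h5 := congrFun (hinj (h3.trans h4.symm)) i₁
  rw [Pi.single_eq_same] at h5
  exact one_ne_zero h5

theorem two_le_s (h : Std U x f r i₀ ρ s) : 2 ≤ s := by
  have h1 := h.card
  have h2 := two_le_card ρ
  rw [h1] at h2
  by_contra h3
  have h4 : s < 2 := by omega
  interval_cases s <;> omega

/-- a field automorphism trivial on `F₀`, of order dividing a prime different from `r i₀`, is trivial -/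
theorem eq_one_of_fix (h : Std U x f r i₀ ρ s) {σ : F ≃+* F} {ℓ : ℕ} (hℓ : ℓ.Prime) (hσ : σ ^ ℓ = 1)
    (hfix : ∀ a, ρ a = a → σ a = a) (hne : ℓ ≠ r i₀) : σ = 1 := by
  classical
  by_contra h1
  have hord : orderOf σ = ℓ := by
    have : Fact ℓ.Prime := ⟨hℓ⟩
    exact orderOf_eq_prime hσ h1
  have hle : fixf ρ ≤ fixf σ := fun a ha => hfix a ha
  let _ : Algebra ↥(fixf ρ) ↥(fixf σ) := (Subfield.inclusion hle).toAlgebra
  have h2 : Nat.card ↥(fixf σ) = Nat.card ↥(fixf ρ) ^ Module.finrank ↥(fixf ρ) ↥(fixf σ) :=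
    Module.natCard_eq_pow_finrank
  have h3 := card_fixf hord
  rw [card_fixf h.ord, h2, ← pow_mul] at h3
  have h4 : r i₀ = Module.finrank ↥(fixf ρ) ↥(fixf σ) * ℓ := Nat.pow_right_injective (two_le_card ρ) h3
  have h5 : ℓ ∣ r i₀ := ⟨_, by rw [h4, mul_comm]⟩
  exact hne ((Nat.prime_dvd_prime_iff_eq hℓ (h.fam.pf.prime i₀)).1 h5)

/-- **Only `x i₀` centralises `M`.** -/
theorem eq_of_centr (h : Std U x f r i₀ ρ s) {j : ι} (hj : ∀ m ∈ h.grp, x j * m = m * x j) : j = i₀ := by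
  classical
  by_contra hne
  have hg := h.fam.lft j
  have hn := U.hn
  generalize hfj : f j = g at hg
  obtain ⟨σ, hσ1, -⟩ := hg.ind.exists_rho
  obtain ⟨h1, c, hc⟩ := h.lft_scalar (fun v w => hg.ind.map_add v w) hσ1 hg.ind.injective
    (fun e he hee he0 => h.lft_iso hg hj he hee he0)
  -- `σ ^ r j = 1`
  have hit : ∀ (k : ℕ) (a : F) (v : Fin n → F), g^[k] (a • v) = (σ ^ k) a • g^[k] v := by
    intro k
    induction k with
    | zero => intro a v; rfl
    | succ k ih =>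
      intro a v
      rw [Function.iterate_succ_apply', ih, hσ1, Function.iterate_succ_apply', pow_succ']
      rfl
  have hpj := hg.pow (r j)
  rw [h.fam.pf.pow] at hpj
  obtain ⟨d, hd⟩ := hpj.eq_one_iff.1 rfl
  let i₁ : Fin n := ⟨0, by omega⟩
  have hσ : σ ^ r j = 1 := by
    ext a
    have h2 := hit (r j) a (Pi.single i₁ 1)
    rw [hd, hd] at h2
    have h3 := hpj.ind.injective.ne (a₁ := (Pi.single i₁ 1 : Fin n → F)) (a₂ := 0) (by
      intro h4
      have h5 := congrFun h4 i₁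
      rw [Pi.single_eq_same] at h5
      exact one_ne_zero h5)
    rw [hpj.ind.map_zero, hd] at h3
    have h4 : (a - (σ ^ r j) a) • (d • (Pi.single i₁ 1 : Fin n → F)) = 0 := by
      rw [sub_smul, ← h2, smul_comm, sub_self]
    exact (sub_eq_zero.1 ((smul_eq_zero.1 h4).resolve_right h3)).symm
  have hσ' := h.eq_one_of_fix (h.fam.pf.prime j) hσ h1 (fun h2 => hne (h.fam.pf.inj h2))
  subst hσ'
  apply h.fam.pf.ne j
  rw [hg.eq_one_iff]
  refine ⟨c, fun v => ?_⟩
  have hsum : ∀ (t : Finset (Fin n)) (w : Fin n → (Fin n → F)), g (∑ i ∈ t, w i) = ∑ i ∈ t, g (w i) := by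
    intro t w
    induction t using Finset.induction_on with
    | empty => rw [Finset.sum_empty, Finset.sum_empty, hg.ind.map_zero]
    | insert a t ha ih => rw [Finset.sum_insert ha, Finset.sum_insert ha, hg.ind.map_add, ih]
  have hv : v = ∑ i, v i • (Pi.single i 1 : Fin n → F) := by
    funext l
    simp [Finset.sum_apply, Pi.single_apply]
  conv_lhs => rw [hv]
  conv_rhs => rw [hv]
  rw [hsum, Finset.smul_sum]
  refine Finset.sum_congr rfl fun i _ => ?_
  rw [hσ1, hc, smul_comm]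
  rfl

/-- **The final step**: `x i₀` and a transvection of `M` do not cover. -/
theorem not_cov_two (h : Std U x f r i₀ ρ s) [Nonempty Ω]
    (hcov : ∀ ω : Ω, (∀ m ∈ h.grp, m • ω = ω) ∨ x i₀ • ω = ω) : False := by
  classical
  have hF := U.hF
  have hn := U.hn
  let i : Fin n := ⟨0, by omega⟩
  let j : Fin n := ⟨1, by omega⟩
  let k : Fin n := ⟨2, by omega⟩
  have hij : i ≠ j := fun h1 => by have h2 := congrArg Fin.val h1; change 0 = 1 at h2; omega
  have hik : i ≠ k := fun h1 => by have h2 := congrArg Fin.val h1; change 0 = 2 at h2; omega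
  have hjk : j ≠ k := fun h1 => by have h2 := congrArg Fin.val h1; change 1 = 2 at h2; omega
  obtain ⟨b, hb, hb1⟩ := h.exists_norm (c := -1) (by rw [map_neg, map_one]) (by rw [neg_pow_q hF, one_pow])
  obtain ⟨κ, hκ, hκq⟩ := h.exists_kappa
  obtain ⟨e, he⟩ : ∃ e : Fin n → F, e = Pi.single i 1 + b • Pi.single j 1 + (0 : F) • Pi.single k 1 := ⟨_, rfl⟩
  have hee : hermForm n F q e e = 0 := by
    rw [he, herm_three hij hik hjk, hb1]
    ring
  have he0 : e ≠ 0 := by
    intro h0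
    have h2 := congrFun h0 i
    rw [he] at h2
    simp only [Pi.add_apply, Pi.smul_apply, Pi.single_eq_same, Pi.single_eq_of_ne hij, Pi.single_eq_of_ne hik,
      smul_eq_mul, mul_zero, add_zero, Pi.zero_apply] at h2
    exact one_ne_zero h2
  have hs1 : ∀ m l : Fin n, ρ ((Pi.single m 1 : Fin n → F) l) = (Pi.single m 1 : Fin n → F) l := by
    intro m l
    rcases eq_or_ne l m with rfl | hl
    · rw [Pi.single_eq_same, map_one]
    · rw [Pi.single_eq_of_ne hl, map_zero]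
  have heρ : ∀ l, ρ (e l) = e l := by
    intro l
    rw [he]
    simp only [Pi.add_apply, Pi.smul_apply, smul_eq_mul, map_add, map_mul, hs1, hb, map_zero]
  have hek : ∀ a : F, hermForm n F q (a • Pi.single k 1) e = 0 := by
    intro a
    rw [herm_smul_left, herm_single_left, he]
    simp only [Pi.add_apply, Pi.smul_apply, Pi.single_eq_same, Pi.single_eq_of_ne hjk.symm,
      Pi.single_eq_of_ne hik.symm, smul_eq_mul, mul_zero, add_zero, mul_one, zero_pow_q hF]
  have hkk : ∀ a c : F, hermForm n F q (a • Pi.single k 1) (c • Pi.single k 1) = a * c ^ q := by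
    intro a c
    rw [herm_smul_left, herm_smul_right, herm_single_left, Pi.single_eq_same, one_pow, mul_one, mul_one]
  -- Siegel transformations
  have hex : ∀ a : F, ∃ μ, IsSiegel q e (a • Pi.single k 1) μ := by
    intro a
    obtain ⟨μ, hμ⟩ := exists_trace_eq hF (c := -(a * a ^ q)) (by rw [neg_pow_q hF, norm_pow_q hF])
    exact ⟨μ, hee, hek a, by rw [hμ, hkk]; ring⟩
  obtain ⟨t, ht⟩ : ∃ t : F, ρ t ≠ t := by
    by_contra hcon
    push Not at hcon
    have h1 : ρ = 1 := RingEquiv.ext hcon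
    have h2 := h.ord
    rw [h1, orderOf_one] at h2
    exact (h.fam.pf.prime i₀).ne_one h2.symm
  have htt : (t - ρ t) ^ q ≠ 0 := pow_ne_zero _ (sub_ne_zero.2 (Ne.symm ht))
  obtain ⟨μ₁, hμ₁⟩ := hex t
  obtain ⟨μ₂, hμ₂⟩ := hex (κ / (t - ρ t) ^ q)
  let Q : Subgroup G := (siegG hF e hee).map U.el
  have hQ : ∀ {w : Fin n → F} {μ : F} (hs : IsSiegel q e w μ), U.el (siegel hF e w μ hs) ∈ Q :=
    fun hs => ⟨_, ⟨_, _, hs, rfl⟩, rfl⟩
  -- the first commutator
  have hρt : (fun l => ρ ((t • (Pi.single k 1 : Fin n → F)) l)) = ρ t • (Pi.single k 1 : Fin n → F) := by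
    funext l
    simp only [Pi.smul_apply, smul_eq_mul, map_mul, hs1]
  have hμ₁' : IsSiegel q e (ρ t • Pi.single k 1) (ρ μ₁) := by
    have h1 := h.siegel_rho hμ₁ heρ
    rwa [hρt] at h1
  have hc1 := mem_cmm (x := x i₀) (hQ hμ₁)
  have hc2 : U.el (siegel hF e _ _ hμ₁) * x i₀ * (U.el (siegel hF e _ _ hμ₁))⁻¹ * (x i₀)⁻¹ =
      U.el (siegel hF e _ _ (hμ₁.mul hF (hμ₁'.inv hF))) := by
    rw [← siegel_mul hF hμ₁ (hμ₁'.inv hF), ← siegel_inv hF hμ₁', map_mul, map_inv]
    have h1 := h.conj_siegel hμ₁ heρ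
    have h2 : siegel hF e _ _ (h.siegel_rho hμ₁ heρ) = siegel hF e _ _ hμ₁' := siegel_congr hF _ _ rfl hρt rfl
    rw [h2] at h1
    rw [← h1]
    group
  rw [hc2] at hc1
  have hc3 := cmm_comm (hQ hμ₂) hc1
  rw [← map_inv, ← map_inv, ← map_mul, ← map_mul, ← map_mul, ← commutatorElement_def,
    LieClassical.HermSimple.commutator_siegel hF hμ₂ (hμ₁.mul hF (hμ₁'.inv hF))] at hc3
  have hw : t • (Pi.single k 1 : Fin n → F) + -(ρ t • (Pi.single k 1 : Fin n → F)) =
      (t - ρ t) • (Pi.single k 1 : Fin n → F) := by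
    rw [sub_smul, sub_eq_add_neg]
  have hval : hermForm n F q ((κ / (t - ρ t) ^ q) • Pi.single k 1)
      (t • (Pi.single k 1 : Fin n → F) + -(ρ t • (Pi.single k 1 : Fin n → F))) -
      hermForm n F q (t • (Pi.single k 1 : Fin n → F) + -(ρ t • (Pi.single k 1 : Fin n → F)))
        ((κ / (t - ρ t) ^ q) • Pi.single k 1) = κ - κ ^ q := by
    rw [hw, herm_swap hF ((κ / (t - ρ t) ^ q) • Pi.single k 1), hkk, div_mul_cancel₀ _ htt]
  have hsy : IsSiegel q e 0 (κ - κ ^ q) := by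
    refine isSiegel_zero hee ?_
    rw [sub_pow_q hF, pow_q_pow_q hF]
    ring
  rw [siegel_congr hF _ hsy rfl rfl hval] at hc3
  have hyM : U.el (siegel hF e 0 (κ - κ ^ q) hsy) ∈ h.grp :=
    h.transv_mem hsy heρ (by rw [map_sub, map_pow, hκ])
  refine not_cov_one U.env (x := x i₀) (y := U.el (siegel hF e 0 (κ - κ ^ q) hsy)) (U := Q) (fun ω => ?_) ?_ ?_ hc3
  · rcases hcov ω with h1 | h1
    · exact Or.inl (h1 _ hyM)
    · exact Or.inr h1
  · rintro _ ⟨_, ⟨w, μ, hs, rfl⟩, rfl⟩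
    rw [← map_mul, LieClassical.HermSimple.siegel_central hF hs hsy, map_mul]
  · rw [Ne, U.el_eq_one]
    intro h1
    obtain ⟨z, -, -, hz⟩ := exists_scalar_of_mem_center hF hn h1
    have h2 : ∀ v, v + ((κ - κ ^ q) * hermForm n F q v e) • e = z • v := by
      intro v
      rw [← hz]
      exact (act_transv hF hee (by
        have := hsy.tr
        rwa [herm_zero_left, add_zero] at this) v).symm
    have h3 := h2 e
    rw [hee, mul_zero, zero_smul, add_zero] at h3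
    have h4 : (1 - z) • e = 0 := by rw [sub_smul, one_smul, ← h3, sub_self]
    have h5 : z = 1 := (sub_eq_zero.1 ((smul_eq_zero.1 h4).resolve_right he0)).symm
    obtain ⟨v, hv⟩ := exists_herm_ne_zero hF he0
    have hv' : hermForm n F q v e ≠ 0 := fun h4 => hv (herm_eq_zero_swap hF h4)
    have h6 := h2 v
    rw [h5, one_smul, add_eq_left] at h6
    rcases smul_eq_zero.1 h6 with h7 | h7
    · rcases mul_eq_zero.1 h7 with h8 | h8
      · exact hκq (sub_eq_zero.1 h8).symm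
      · exact hv' h8
    · exact he0 h7

/-- **The case `(n, q₀) ≠ (3, 2)`.** -/
theorem not_cov (h : Std U x f r i₀ ρ s) [Finite ι] [Nonempty Ω] (h32 : ¬ (n = 3 ∧ s = 2))
    (hRC : RC (PSU n ↥(fixf ρ) s)) (hcov : Cov Ω x) : False := by
  classical
  let _ : Fintype ↥(fixf ρ) := Fintype.ofFinite _
  have hF₀ : Fintype.card ↥(fixf ρ) = s ^ 2 := by rw [← Nat.card_eq_fintype_card, h.card]
  have hS : IsSimpleGroup (PSU n ↥(fixf ρ) s) := Cfsg.Agent.LieClassical.HermSimple.isSimpleGroup_of_perfect hF₀ U.hn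
    (Cfsg.Agent.LieClassical.HermPerfect.commutator_SU_eq_top hF₀ U.hn h32)
  have hSn : ¬ IsMulCommutative (PSU n ↥(fixf ρ) s) := by
    have : IsSimpleGroup (SU n ↥(fixf ρ) s ⧸ Subgroup.center (SU n ↥(fixf ρ) s)) := hS
    exact Cfsg.Agent.CpAut.Fix.not_comm_quot
  obtain ⟨e⟩ := h.exists_equiv
  refine h.not_cov_two fun ω => ?_
  have h1 := mrule_RC hS hSn x r h.fam.pf.prime h.fam.pf.inj h.fam.pf.pow h.fam.pf.comm h.grp (h.perfect h32)
    e.symm.toMonoidHom e.symm.surjective (by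
      intro m hm
      have h2 : e.symm m = 1 := hm
      have h3 : m = 1 := by rw [← e.apply_symm_apply m, h2, map_one]
      rw [h3]
      exact Subgroup.one_mem _) (h.mem_norm h32) hRC ω (fun m _ => hcov _)
  rcases h1 with h1 | ⟨j, h1, h2⟩
  · exact Or.inl fun m hm => h1 hm
  · rw [h.eq_of_centr h1] at h2
    exact Or.inr h2

end Std

/-- **E11a**: `CaseField` for `(n, q₀) ≠ (3, 2)`. -/
theorem caseField_of (hsmall : SmallStmt) : NoC fun {_ _ _ _ _ F _ _ n q} _ {ι} _ f r =>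
    (∃ i : ι, ¬ Lin (f i) ∧ r i ≠ 2 ∧ ¬ (n = 3 ∧ q = 2 ^ r i)) ∧ H106.RC.IH (Nat.card (PSU n F q)) := by
  classical
  intro G Ω _ _ _ _ _ N F _ _ n q U ι _ x f r hfam hcov hP
  obtain ⟨⟨i₀, h1, h2, h3⟩, hIH⟩ := hP
  obtain ⟨U', f', ρ, s, h⟩ := exists_std U hfam h1 h2
  let _ : Fintype ↥(fixf ρ) := Fintype.ofFinite _
  have hF₀ : Fintype.card ↥(fixf ρ) = s ^ 2 := by rw [← Nat.card_eq_fintype_card, h.card]
  have h32 : ¬ (n = 3 ∧ s = 2) := by
    rintro ⟨h4, h5⟩
    exact h3 ⟨h4, by rw [h.qs, h5]⟩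
  obtain ⟨-, -, -, -, h4, -⟩ := hsmall U.hF U.hn U.h32 hIH
  exact h.not_cov h32 (h4 _ s (r i₀) h.qs (h.fam.pf.prime i₀).one_lt hF₀ h32) hcov

end Cfsg.Agent.H412.RC
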